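import Cfsg.Agent.Lib.Helper92.Co3.Data

/-! # the Conway group Co3 on 552 points: a Sylow 3-subgroup is closed (generated) -/

set_option autoImplicit false
set_option maxRecDepth 100000

namespace Cfsg.Agent.Lib.Helper92.Co3

open Cfsg
open Cfsg.Agent.Lib.Helper27
open Cfsg.Agent.Lib.Helper92
open Cfsg.Agent.Lib.Helper92.PCX

theorem L3closed0 : closedC 552 (nth L3gc) 4 (nth2 L3T 64) (fun j => tb (nth L3ci j)) 2187 0 294 = true := by
  decide +kernel

theorem L3closed1 : closedC 552 (nth L3gc) 4 (nth2 L3T 64) (fun j => tb (nth L3ci j)) 2187 294 294 = true := by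
  decide +kernel

theorem L3closed2 : closedC 552 (nth L3gc) 4 (nth2 L3T 64) (fun j => tb (nth L3ci j)) 2187 588 294 = true := by
  decide +kernel

theorem L3closed3 : closedC 552 (nth L3gc) 4 (nth2 L3T 64) (fun j => tb (nth L3ci j)) 2187 882 294 = true := by
  decide +kernel

end Cfsg.Agent.Lib.Helper92.Co3
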