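import Cfsg.Agent.Lib.Helper92.Co3.Data

/-! # the Conway group Co3 on 552 points: small subgroups are closed (generated) -/

set_option autoImplicit false
set_option maxRecDepth 100000

namespace Cfsg.Agent.Lib.Helper92.Co3

open Cfsg
open Cfsg.Agent.Lib.Helper27
open Cfsg.Agent.Lib.Helper92
open Cfsg.Agent.Lib.Helper92.PCX

theorem Cclosed0 : closedC 552 (nth Cgc) 2 (nth2 CT 64) (fun j => tb (nth Cci j)) 81 0 81 = true := by
  decide +kernel

theorem L5closed0 : closedC 552 (nth L5gc) 2 (nth2 L5T 64) (fun j => tb (nth L5ci j)) 125 0 125 = true := by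
  decide +kernel

theorem Nclosed0 : closedC 552 (nth Ngc) 2 (nth2 NT 64) (fun j => tb (nth Nci j)) 253 0 253 = true := by
  decide +kernel

theorem Ninvs : invsB 552 (nth2 NT 64) (fun k => nth2 NT 64 (tb Ninv k)) 253 = true := by decide +kernel

end Cfsg.Agent.Lib.Helper92.Co3
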