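import Cfsg.Agent.Lib.Helper92.Co3.Data

/-! # the Conway group Co3 on 552 points: the relator tests (generated) -/

set_option autoImplicit false
set_option maxRecDepth 100000

namespace Cfsg.Agent.Lib.Helper92.Co3

open Cfsg
open Cfsg.Agent.Lib.Helper27
open Cfsg.Agent.Lib.Helper92
open Cfsg.Agent.Lib.Helper92.PCX

theorem main0 : mainC 552 (nth Apow) (nth2 YT 64) rels (tb cjT) (tb cpT) 23 0 225 = true := by decide +kernel

theorem main1 : mainC 552 (nth Apow) (nth2 YT 64) rels (tb cjT) (tb cpT) 23 225 225 = true := by decide +kernel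

theorem main2 : mainC 552 (nth Apow) (nth2 YT 64) rels (tb cjT) (tb cpT) 23 450 225 = true := by decide +kernel

theorem rels_ok : relB 552 aC zC rels = true := by decide +kernel

theorem pows_ok : powsB 552 aC (nth Apow) 22 = true := by decide +kernel

end Cfsg.Agent.Lib.Helper92.Co3
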