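import Cfsg.Agent.Lib.Helper92.Co3.Data

/-! # the Conway group Co3 on 552 points: the representatives are conjugates (generated) -/

set_option autoImplicit false
set_option maxRecDepth 100000

namespace Cfsg.Agent.Lib.Helper92.Co3

open Cfsg
open Cfsg.Agent.Lib.Helper27
open Cfsg.Agent.Lib.Helper92
open Cfsg.Agent.Lib.Helper92.PCX

theorem reps0 : repsB 552 zC (nth2 NT 64) (fun k => nth2 NT 64 (tb Ninv k)) (nth2 YT 64) (tb Ypar) (tb Ykk) 253 0 294 = true := by decide +kernel

theorem reps1 : repsB 552 zC (nth2 NT 64) (fun k => nth2 NT 64 (tb Ninv k)) (nth2 YT 64) (tb Ypar) (tb Ykk) 253 294 294 = true := by decide +kernel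

theorem reps2 : repsB 552 zC (nth2 NT 64) (fun k => nth2 NT 64 (tb Ninv k)) (nth2 YT 64) (tb Ypar) (tb Ykk) 253 588 87 = true := by decide +kernel

end Cfsg.Agent.Lib.Helper92.Co3
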