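import Cfsg.Agent.Lib.Helper92.Co3.Lists
import Cfsg.Agent.Lib.Helper92.Co3.Reps0
import Cfsg.Agent.Lib.Helper92.Co3.Cls0
import Cfsg.Agent.Lib.Helper92.Co3.Cls1
import Cfsg.Agent.Lib.Helper92.Co3.Cls2
import Cfsg.Agent.Lib.Helper92.Co3.Cls3
import Cfsg.Agent.Lib.Helper92.Co3.Cls4
import Cfsg.Agent.Lib.Helper92.Co3.Cls5
import Cfsg.Agent.Lib.Helper92.Co3.Main0

/-! # the Conway group Co3 on 552 points: all automorphisms of the permutation group are inner (generated) -/

set_option autoImplicit false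
set_option maxRecDepth 100000

namespace Cfsg.Agent.Lib.Helper92.Co3

open Cfsg
open Cfsg.Agent.Lib.Helper27
open Cfsg.Agent.Lib.Helper92
open Cfsg.Agent.Lib.Helper92.PCX

/-! ### the straight line programs -/

def outs : List ℕ := [bC, x5C, x7C] ++ Sgc ++ Cgc ++ L3gc ++ L5gc

theorem main_slp : headsOK outs (slp 552 eC mainProg [zC, aC]) = true := by decide +kernel

theorem a_mem : a ∈ PG a z := AutSetup.a_mem
theorem z_mem : z ∈ PG a z := AutSetup.z_mem

theorem out_mem : ∀ c ∈ outs, ∃ σ ∈ PG a z, HasP σ c :=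
  slp_out (PG a z) e_id (by
    intro c hc
    simp only [List.mem_cons, List.not_mem_nil, or_false] at hc
    rcases hc with rfl | rfl
    · exact ⟨z, z_mem, hz⟩
    · exact ⟨a, a_mem, ha⟩) main_slp

theorem b_mem : b ∈ PG a z := mem_of_code (out_mem _ (by simp [outs])) hb
theorem x5_mem : x5 ∈ PG a z := mem_of_code (out_mem _ (by simp [outs])) hx5
theorem x7_mem : x7 ∈ PG a z := mem_of_code (out_mem _ (by simp [outs])) hx7
theorem Sg_mem : ∀ j < 4, Sg j ∈ PG a z := fun j hj =>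
  mem_of_code (out_mem _ (List.mem_append_left _ (List.mem_append_left _ (List.mem_append_left _ (List.mem_append_right _ (nth_mem (by exact hj))))))) (Shg j hj)
theorem Cg_mem : ∀ j < 2, Cg j ∈ PG a z := fun j hj =>
  mem_of_code (out_mem _ (List.mem_append_left _ (List.mem_append_left _ (List.mem_append_right _ (nth_mem (by exact hj)))))) (Chg j hj)
theorem L3g_mem : ∀ j < 4, L3g j ∈ PG a z := fun j hj =>
  mem_of_code (out_mem _ (List.mem_append_left _ (List.mem_append_right _ (nth_mem (by exact hj))))) (L3hg j hj)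
theorem L5g_mem : ∀ j < 2, L5g j ∈ PG a z := fun j hj =>
  mem_of_code (out_mem _ (List.mem_append_right _ (nth_mem (by exact hj)))) (L5hg j hj)

theorem az_slp : headsOK [aC, zC] (slp 552 eC azProg [p4C, p3C, p2C, p1C, p0C]) = true := by decide +kernel

/-- `a` and `z` lie in every subgroup containing the given generators. -/
theorem az_of_gens (H : Subgroup (Equiv.Perm (Fin 552))) (h0 : ∃ σ ∈ H, HasP σ p0C) (h1 : ∃ σ ∈ H, HasP σ p1C) (h2 : ∃ σ ∈ H, HasP σ p2C) (h3 : ∃ σ ∈ H, HasP σ p3C) (h4 : ∃ σ ∈ H, HasP σ p4C) : PG a z ≤ H := by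
  have key := slp_out H e_id (st := [p4C, p3C, p2C, p1C, p0C]) (by
    intro c hc
    simp only [List.mem_cons, List.not_mem_nil, or_false] at hc
    rcases hc with rfl | rfl | rfl | rfl | rfl
    · exact h4
    · exact h3
    · exact h2
    · exact h1
    · exact h0) az_slp
  unfold PG
  rw [Subgroup.closure_le]
  rintro x (rfl | hx)
  · exact mem_of_code (key aC (by simp)) ha
  · rw [Set.mem_singleton_iff.1 hx]
    exact mem_of_code (key zC (by simp)) hz

/-! ### the order -/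

theorem order_a : orderOf a = 23 :=
  orderOf_of_code (i := 0) (by norm_num) ha e_id (by decide +kernel) (by norm_num) (by decide +kernel)
theorem order_b : orderOf b = 11 :=
  orderOf_of_code (i := 0) (by norm_num) hb e_id (by decide +kernel) (by norm_num) (by decide +kernel)
theorem order_x5 : orderOf x5 = 5 :=
  orderOf_of_code (i := 0) (by norm_num) hx5 e_id (by decide +kernel) (by norm_num) (by decide +kernel)
theorem order_x7 : orderOf x7 = 7 :=
  orderOf_of_code (i := 0) (by norm_num) hx7 e_id (by decide +kernel) (by norm_num) (by decide +kernel)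

theorem dvd_card : 495766656000 ∣ Nat.card (PG a z) := by
  have h0 : 1024 ∣ Nat.card (PG a z) := card_genS_dvd Slist Sg_mem
  have h1 : 2187 ∣ Nat.card (PG a z) := card_genS_dvd L3list L3g_mem
  have h2 : 125 ∣ Nat.card (PG a z) := card_genS_dvd L5list L5g_mem
  have h3 : 7 ∣ Nat.card (PG a z) := order_x7 ▸ orderOf_dvd_card_of_mem x7_mem
  have h4 : 11 ∣ Nat.card (PG a z) := order_b ▸ orderOf_dvd_card_of_mem b_mem
  have h5 : 23 ∣ Nat.card (PG a z) := order_a ▸ orderOf_dvd_card_of_mem a_mem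
  have e1 : 1024 * 2187 ∣ Nat.card (PG a z) := Nat.Coprime.mul_dvd_of_dvd_of_dvd (by norm_num) h0 h1
  have e2 : 1024 * 2187 * 125 ∣ Nat.card (PG a z) := Nat.Coprime.mul_dvd_of_dvd_of_dvd (by norm_num) e1 h2
  have e3 : 1024 * 2187 * 125 * 7 ∣ Nat.card (PG a z) := Nat.Coprime.mul_dvd_of_dvd_of_dvd (by norm_num) e2 h3
  have e4 : 1024 * 2187 * 125 * 7 * 11 ∣ Nat.card (PG a z) :=
    Nat.Coprime.mul_dvd_of_dvd_of_dvd (by norm_num) e3 h4
  have e5 : 1024 * 2187 * 125 * 7 * 11 * 23 ∣ Nat.card (PG a z) :=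
    Nat.Coprime.mul_dvd_of_dvd_of_dvd (by norm_num) e4 h5
  exact e5

/-! ### the centraliser of `z` -/

/-- the centraliser of `z`. -/
def Cz : Subgroup (Equiv.Perm (Fin 552)) := Subgroup.centralizer {z} ⊓ PG a z

theorem mem_Cz {x : Equiv.Perm (Fin 552)} (h1 : x ∈ PG a z) (h2 : z * x = x * z) : x ∈ Cz :=
  ⟨Subgroup.mem_centralizer_singleton_iff.2 h2.symm, h1⟩

theorem Cz_comm : ∀ x ∈ Cz, z * x = x * z :=
  fun _ hx => (Subgroup.mem_centralizer_singleton_iff.1 hx.1).symm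

theorem S_comm : ∀ t ∈ genS Sg 4, z * t = t * z := comm_of_commB hz Shg (by decide +kernel)
theorem C_comm : ∀ t ∈ genS Cg 2, z * t = t * z := comm_of_commB hz Chg (by decide +kernel)

theorem dvd_card_Cz : 2903040 ∣ Nat.card Cz := by
  have h0 : 1024 ∣ Nat.card Cz :=
    card_genS_dvd Slist (fun j hj => mem_Cz (Sg_mem j hj) (S_comm _ (gen_mem Sg hj)))
  have h1 : 81 ∣ Nat.card Cz :=
    card_genS_dvd Clist (fun j hj => mem_Cz (Cg_mem j hj) (C_comm _ (gen_mem Cg hj)))
  have h2 : 5 ∣ Nat.card Cz := order_x5 ▸ orderOf_dvd_card_of_mem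
    (mem_Cz x5_mem (hz.mul_eq hx5 hx5 hz (by decide +kernel)))
  have h3 : 7 ∣ Nat.card Cz := order_x7 ▸ orderOf_dvd_card_of_mem
    (mem_Cz x7_mem (hz.mul_eq hx7 hx7 hz (by decide +kernel)))
  have e1 : 1024 * 81 ∣ Nat.card Cz := Nat.Coprime.mul_dvd_of_dvd_of_dvd (by norm_num) h0 h1
  have e2 : 1024 * 81 * 5 ∣ Nat.card Cz := Nat.Coprime.mul_dvd_of_dvd_of_dvd (by norm_num) e1 h2
  have e3 : 1024 * 81 * 5 * 7 ∣ Nat.card Cz := Nat.Coprime.mul_dvd_of_dvd_of_dvd (by norm_num) e2 h3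
  exact e3

/-! ### the normaliser of `⟨a⟩` -/

theorem hA : ∀ m, m ≤ 22 → HasP (a ^ m) (nth Apow m) := pows_of_powsB ha pows_ok

theorem N0 : Ng 0 = a := (Nhg 0 (by norm_num)).ext ha
theorem N1 : Ng 1 = b := (Nhg 1 (by norm_num)).ext hb

theorem N_le : genS Ng 2 ≤ PG a z :=
  genS_le (forall_two (p := fun j => Ng j ∈ PG a z) (N0 ▸ a_mem) (N1 ▸ b_mem))

theorem b_norm : b ∈ normZ a :=
  mem_normZ (e := 2) (e' := 12) (hb.mul_eq ha (hA 2 (by norm_num)) hb (by decide +kernel))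
    (ha.mul_eq hb hb (hA 12 (by norm_num)) (by decide +kernel))

theorem a_norm : a ∈ normZ a := mem_normZ (e := 1) (e' := 1) (by rw [pow_one]) (by rw [pow_one])

theorem N_norm : genS Ng 2 ≤ normZ a :=
  genS_le (forall_two (p := fun j => Ng j ∈ normZ a) (N0 ▸ a_norm) (N1 ▸ b_norm))

theorem hW : ∀ k < 253, ∃ σ ∈ genS Ng 2, HasP σ (nth2 NT 64 k) ∧ HasP σ⁻¹ (nth2 NT 64 (tb Ninv k)) :=
  invs_of_invsB Ninvs Nlist.sup

/-! ### the class of `z` -/

theorem z_sq : z * z = 1 := (hz.mul hz).eq_one (by decide +kernel)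

theorem reps_all : ∀ r < 675, (r = 0 ∧ nth2 YT 64 0 = zC) ∨ (tb Ypar r < r ∧ tb Ykk r < 253 ∧
    mulP 552 zC (mulP 552 (mulP 552 (mulP 552 (nth2 NT 64 (tb Ykk r)) (nth2 YT 64 (tb Ypar r)))
      (nth2 NT 64 (tb Ninv (tb Ykk r)))) zC) = nth2 YT 64 r) := by
  intro k hk
  rcases Nat.lt_or_ge k 294 with h0 | h0
  · exact repsB_spec reps0 (by omega) (by omega)
  rcases Nat.lt_or_ge k 588 with h1 | h1
  · exact repsB_spec reps1 (by omega) (by omega)
  exact repsB_spec reps2 (by omega) (by omega)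

theorem hY : ∀ r < 675, ∃ x ∈ PG a z, HasP (x * z * x⁻¹) (nth2 YT 64 r) :=
  reps_of_repsB (W := nth2 NT 64) (Wi := fun k => nth2 NT 64 (tb Ninv k)) (par := tb Ypar) (kk := tb Ykk)
    hz z_sq z_mem (fun k hk => by
      obtain ⟨σ, hσ, h⟩ := hW k hk
      exact ⟨σ, N_le hσ, h⟩) reps_all

theorem cls_all : ∀ i < 170775, tb2 sKl i < 253 ∧ tb2 sRl i < 675 ∧ (i + 1 = 170775 ∨
    fpI (nth2 NT 64) (fun k => nth2 NT 64 (tb Ninv k)) (nth2 YT 64) (tb2 sKl) (tb2 sRl) pts i < fpI (nth2 NT 64) (fun k => nth2 NT 64 (tb Ninv k)) (nth2 YT 64) (tb2 sKl) (tb2 sRl) pts (i + 1)) := by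
  intro k hk
  rcases Nat.lt_or_ge k 10000 with h0 | h0
  · exact clsB_spec cls0 (by omega) (by omega)
  rcases Nat.lt_or_ge k 20000 with h1 | h1
  · exact clsB_spec cls1 (by omega) (by omega)
  rcases Nat.lt_or_ge k 30000 with h2 | h2
  · exact clsB_spec cls2 (by omega) (by omega)
  rcases Nat.lt_or_ge k 40000 with h3 | h3
  · exact clsB_spec cls3 (by omega) (by omega)
  rcases Nat.lt_or_ge k 50000 with h4 | h4
  · exact clsB_spec cls4 (by omega) (by omega)
  rcases Nat.lt_or_ge k 60000 with h5 | h5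
  · exact clsB_spec cls5 (by omega) (by omega)
  rcases Nat.lt_or_ge k 70000 with h6 | h6
  · exact clsB_spec cls6 (by omega) (by omega)
  rcases Nat.lt_or_ge k 80000 with h7 | h7
  · exact clsB_spec cls7 (by omega) (by omega)
  rcases Nat.lt_or_ge k 90000 with h8 | h8
  · exact clsB_spec cls8 (by omega) (by omega)
  rcases Nat.lt_or_ge k 100000 with h9 | h9
  · exact clsB_spec cls9 (by omega) (by omega)
  rcases Nat.lt_or_ge k 110000 with h10 | h10
  · exact clsB_spec cls10 (by omega) (by omega)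
  rcases Nat.lt_or_ge k 120000 with h11 | h11
  · exact clsB_spec cls11 (by omega) (by omega)
  rcases Nat.lt_or_ge k 130000 with h12 | h12
  · exact clsB_spec cls12 (by omega) (by omega)
  rcases Nat.lt_or_ge k 140000 with h13 | h13
  · exact clsB_spec cls13 (by omega) (by omega)
  rcases Nat.lt_or_ge k 150000 with h14 | h14
  · exact clsB_spec cls14 (by omega) (by omega)
  rcases Nat.lt_or_ge k 160000 with h15 | h15
  · exact clsB_spec cls15 (by omega) (by omega)
  rcases Nat.lt_or_ge k 170000 with h16 | h16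
  · exact clsB_spec cls16 (by omega) (by omega)
  exact clsB_spec cls17 (by omega) (by omega)

theorem Y0 : nth2 YT 64 0 = zC := by decide +kernel

theorem cover (hcard : Nat.card (PG a z) = 495766656000) : ∀ x ∈ PG a z, ∃ σ ∈ genS Ng 2, ∃ τ, ∃ r < 675,
    HasP τ (nth2 YT 64 r) ∧ x * z * x⁻¹ = σ * τ * σ⁻¹ :=
  cover_of_checks (C := Cz) (c := 2903040) N_le hW hY (by decide) cls_all (by rw [hcard]) (by norm_num)
    inf_le_right Cz_comm (Nat.le_of_dvd Nat.card_pos dvd_card_Cz)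

theorem main_all : ∀ r < 675, ∀ m, 0 < m → m < 23 → ∀ τ : Equiv.Perm (Fin 552), HasP τ (nth2 YT 64 r) →
    (∀ (w : List Bool) (mm : ℕ), ev a z w ^ mm = 1 → ev (a ^ m) τ w ^ mm = 1) → r = 0 ∧ m = 1 := by
  intro k hk m hm0 hmp τ hτ hw
  rcases Nat.lt_or_ge k 225 with h0 | h0
  · exact mainC_spec ha hz rels_ok main0 (by omega) (by omega) hm0 hmp hτ (hA m (by omega)) hw
  rcases Nat.lt_or_ge k 450 with h1 | h1
  · exact mainC_spec ha hz rels_ok main1 (by omega) (by omega) hm0 hmp hτ (hA m (by omega)) hw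
  exact mainC_spec ha hz rels_ok main2 (by omega) (by omega) hm0 hmp hτ (hA m (by omega)) hw

/-! ### the setup -/

theorem S_z : nth2 ST 64 779 = zC := by decide +kernel

theorem setup (hcard : Nat.card (PG a z) = 495766656000) : AutSetup1 a z 23 10 (genS Sg 4) where
  fin := inferInstance
  pp := by norm_num
  oa := order_a
  hp2 := by rw [hcard]; norm_num
  hSP := genS_le Sg_mem
  cS := by rw [Slist.card]; norm_num
  hk := by rw [hcard]; norm_num
  zS := mem_of_code (Slist.sup 779 (by norm_num)) (S_z ▸ hz)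
  z1 := ne_one_of_code (i := 0) hz (by norm_num) (by decide +kernel)
  zc := S_comm
  zu := centre_of_centC (wj := tb Swj) (wt := tb Swt) Shg Slist Sid (S_z ▸ hz) (by decide +kernel)
  H2 := H2_of_checks (by norm_num) order_a hz Y0 N_le N_norm (cover hcard) main_all

theorem card_out (hcard : Nat.card (PG a z) = 495766656000) : Nat.card (Cfsg.Out (PG a z)) = 1 :=
  (setup hcard).card_out

end Cfsg.Agent.Lib.Helper92.Co3
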