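import Cfsg.Agent.Lib.Helper92.Co3.Data
import Cfsg.Agent.Lib.Helper92.Co3.ClS0
import Cfsg.Agent.Lib.Helper92.Co3.ClT0
import Cfsg.Agent.Lib.Helper92.Co3.ClT1
import Cfsg.Agent.Lib.Helper92.Co3.ClU0

/-! # the Conway group Co3 on 552 points: element lists of subgroups (generated) -/

set_option autoImplicit false
set_option maxRecDepth 100000

namespace Cfsg.Agent.Lib.Helper92.Co3

open Cfsg
open Cfsg.Agent.Lib.Helper27
open Cfsg.Agent.Lib.Helper92
open Cfsg.Agent.Lib.Helper92.PCX

theorem e_id : PCX.isId 552 eC = true := by decide +kernel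
theorem a_ok : invOK 552 aC aiC = true := by decide +kernel
theorem z_ok : invOK 552 zC zC = true := by decide +kernel
theorem b_ok : invOK 552 bC biC = true := by decide +kernel
theorem x5_ok : invOK 552 x5C x5iC = true := by decide +kernel
theorem x7_ok : invOK 552 x7C x7iC = true := by decide +kernel

def a : Equiv.Perm (Fin 552) := pm 552 aC aiC
def z : Equiv.Perm (Fin 552) := pm 552 zC zC
def b : Equiv.Perm (Fin 552) := pm 552 bC biC
def x5 : Equiv.Perm (Fin 552) := pm 552 x5C x5iC
def x7 : Equiv.Perm (Fin 552) := pm 552 x7C x7iC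

theorem ha : HasP a aC := hasP_pm a_ok
theorem hz : HasP z zC := hasP_pm z_ok
theorem hb : HasP b bC := hasP_pm b_ok
theorem hx5 : HasP x5 x5C := hasP_pm x5_ok
theorem hx7 : HasP x7 x7C := hasP_pm x7_ok

theorem Spairs : pairsOK 552 (nth Sgc) (nth Sgi) 4 = true := by decide +kernel
theorem Sclosed : ∀ k < 1024, ∀ j < 4, tb (nth Sci j) k < 1024 ∧
    mulP 552 (nth Sgc j) (nth2 ST 64 k) = nth2 ST 64 (tb (nth Sci j) k) := by
  intro k hk
  rcases Nat.lt_or_ge k 294 with h0 | h0
  · exact closedC_spec Sclosed0 (by omega) (by omega)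
  rcases Nat.lt_or_ge k 588 with h1 | h1
  · exact closedC_spec Sclosed1 (by omega) (by omega)
  rcases Nat.lt_or_ge k 882 with h2 | h2
  · exact closedC_spec Sclosed2 (by omega) (by omega)
  exact closedC_spec Sclosed3 (by omega) (by omega)

theorem Stree : treeB (fun j => tb (nth Sci j)) (tb Spar) (tb Sgsel) (tb Srk) 1023 4 1024 = true := by
  decide +kernel
theorem Sinc : incB (nth2 ST 64) 1024 = true := by decide +kernel
theorem Sid : PCX.isId 552 (nth2 ST 64 1023) = true := by decide +kernel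
theorem Sidc : mulP 552 (nth2 ST 64 1023) (nth2 ST 64 1023) = nth2 ST 64 1023 := by
  decide +kernel
def Sg : ℕ → Equiv.Perm (Fin 552) := fun j => pm 552 (nth Sgc j) (nth Sgi j)
theorem Shg : ∀ j < 4, HasP (Sg j) (nth Sgc j) := hasP_of_pairsOK Spairs
theorem Slist : ListData 552 Sg 4 (nth2 ST 64) 1024 :=
  listData (ci := fun j => tb (nth Sci j)) Shg (by norm_num) Sid Sidc Sclosed Stree Sinc


theorem Cpairs : pairsOK 552 (nth Cgc) (nth Cgi) 2 = true := by decide +kernel
theorem Cclosed : ∀ k < 81, ∀ j < 2, tb (nth Cci j) k < 81 ∧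
    mulP 552 (nth Cgc j) (nth2 CT 64 k) = nth2 CT 64 (tb (nth Cci j) k) := by
  intro k hk
  exact closedC_spec Cclosed0 (by omega) (by omega)

theorem Ctree : treeB (fun j => tb (nth Cci j)) (tb Cpar) (tb Cgsel) (tb Crk) 80 2 81 = true := by
  decide +kernel
theorem Cinc : incB (nth2 CT 64) 81 = true := by decide +kernel
theorem Cid : PCX.isId 552 (nth2 CT 64 80) = true := by decide +kernel
theorem Cidc : mulP 552 (nth2 CT 64 80) (nth2 CT 64 80) = nth2 CT 64 80 := by
  decide +kernel
def Cg : ℕ → Equiv.Perm (Fin 552) := fun j => pm 552 (nth Cgc j) (nth Cgi j)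
theorem Chg : ∀ j < 2, HasP (Cg j) (nth Cgc j) := hasP_of_pairsOK Cpairs
theorem Clist : ListData 552 Cg 2 (nth2 CT 64) 81 :=
  listData (ci := fun j => tb (nth Cci j)) Chg (by norm_num) Cid Cidc Cclosed Ctree Cinc


theorem L3pairs : pairsOK 552 (nth L3gc) (nth L3gi) 4 = true := by decide +kernel
theorem L3closed : ∀ k < 2187, ∀ j < 4, tb (nth L3ci j) k < 2187 ∧
    mulP 552 (nth L3gc j) (nth2 L3T 64 k) = nth2 L3T 64 (tb (nth L3ci j) k) := by
  intro k hk
  rcases Nat.lt_or_ge k 294 with h0 | h0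
  · exact closedC_spec L3closed0 (by omega) (by omega)
  rcases Nat.lt_or_ge k 588 with h1 | h1
  · exact closedC_spec L3closed1 (by omega) (by omega)
  rcases Nat.lt_or_ge k 882 with h2 | h2
  · exact closedC_spec L3closed2 (by omega) (by omega)
  rcases Nat.lt_or_ge k 1176 with h3 | h3
  · exact closedC_spec L3closed3 (by omega) (by omega)
  rcases Nat.lt_or_ge k 1470 with h4 | h4
  · exact closedC_spec L3closed4 (by omega) (by omega)
  rcases Nat.lt_or_ge k 1764 with h5 | h5
  · exact closedC_spec L3closed5 (by omega) (by omega)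
  rcases Nat.lt_or_ge k 2058 with h6 | h6
  · exact closedC_spec L3closed6 (by omega) (by omega)
  exact closedC_spec L3closed7 (by omega) (by omega)

theorem L3tree : treeB (fun j => tb (nth L3ci j)) (tb L3par) (tb L3gsel) (tb L3rk) 2186 4 2187 = true := by
  decide +kernel
theorem L3inc : incB (nth2 L3T 64) 2187 = true := by decide +kernel
theorem L3id : PCX.isId 552 (nth2 L3T 64 2186) = true := by decide +kernel
theorem L3idc : mulP 552 (nth2 L3T 64 2186) (nth2 L3T 64 2186) = nth2 L3T 64 2186 := by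
  decide +kernel
def L3g : ℕ → Equiv.Perm (Fin 552) := fun j => pm 552 (nth L3gc j) (nth L3gi j)
theorem L3hg : ∀ j < 4, HasP (L3g j) (nth L3gc j) := hasP_of_pairsOK L3pairs
theorem L3list : ListData 552 L3g 4 (nth2 L3T 64) 2187 :=
  listData (ci := fun j => tb (nth L3ci j)) L3hg (by norm_num) L3id L3idc L3closed L3tree L3inc


theorem L5pairs : pairsOK 552 (nth L5gc) (nth L5gi) 2 = true := by decide +kernel
theorem L5closed : ∀ k < 125, ∀ j < 2, tb (nth L5ci j) k < 125 ∧
    mulP 552 (nth L5gc j) (nth2 L5T 64 k) = nth2 L5T 64 (tb (nth L5ci j) k) := by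
  intro k hk
  exact closedC_spec L5closed0 (by omega) (by omega)

theorem L5tree : treeB (fun j => tb (nth L5ci j)) (tb L5par) (tb L5gsel) (tb L5rk) 124 2 125 = true := by
  decide +kernel
theorem L5inc : incB (nth2 L5T 64) 125 = true := by decide +kernel
theorem L5id : PCX.isId 552 (nth2 L5T 64 124) = true := by decide +kernel
theorem L5idc : mulP 552 (nth2 L5T 64 124) (nth2 L5T 64 124) = nth2 L5T 64 124 := by
  decide +kernel
def L5g : ℕ → Equiv.Perm (Fin 552) := fun j => pm 552 (nth L5gc j) (nth L5gi j)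
theorem L5hg : ∀ j < 2, HasP (L5g j) (nth L5gc j) := hasP_of_pairsOK L5pairs
theorem L5list : ListData 552 L5g 2 (nth2 L5T 64) 125 :=
  listData (ci := fun j => tb (nth L5ci j)) L5hg (by norm_num) L5id L5idc L5closed L5tree L5inc


theorem Npairs : pairsOK 552 (nth Ngc) (nth Ngi) 2 = true := by decide +kernel
theorem Nclosed : ∀ k < 253, ∀ j < 2, tb (nth Nci j) k < 253 ∧
    mulP 552 (nth Ngc j) (nth2 NT 64 k) = nth2 NT 64 (tb (nth Nci j) k) := by
  intro k hk
  exact closedC_spec Nclosed0 (by omega) (by omega)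

theorem Ntree : treeB (fun j => tb (nth Nci j)) (tb Npar) (tb Ngsel) (tb Nrk) 252 2 253 = true := by
  decide +kernel
theorem Ninc : incB (nth2 NT 64) 253 = true := by decide +kernel
theorem Nid : PCX.isId 552 (nth2 NT 64 252) = true := by decide +kernel
theorem Nidc : mulP 552 (nth2 NT 64 252) (nth2 NT 64 252) = nth2 NT 64 252 := by
  decide +kernel
def Ng : ℕ → Equiv.Perm (Fin 552) := fun j => pm 552 (nth Ngc j) (nth Ngi j)
theorem Nhg : ∀ j < 2, HasP (Ng j) (nth Ngc j) := hasP_of_pairsOK Npairs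
theorem Nlist : ListData 552 Ng 2 (nth2 NT 64) 253 :=
  listData (ci := fun j => tb (nth Nci j)) Nhg (by norm_num) Nid Nidc Nclosed Ntree Ninc

end Cfsg.Agent.Lib.Helper92.Co3
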